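import Cfsg.Agent.H740.K4.Four
import Cfsg.Agent.H740.K4.Equiv
import Cfsg.Agent.H419.Spor.M12
import Cfsg.Agent.H621.AltChar
import Cfsg.Agent.H714.K4.Defs
import Cfsg.Agent.H307.FourOdd.Defs
import Cfsg.Agent.MTwelveType.SylowModel

/-!
# S4947 / S4547, row `M12` (helper395): `Good5 S`, `RowA S`

The characters `1`, `11`, `11 ∘ bt`, `55` and column parity at an element of order `11`.
-/

set_option autoImplicit false

namespace Cfsg.Agent.H395.K4.M12

open Cfsg Cfsg.Agent.H740.K4 Cfsg.Agent.H419.Spor.M12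

universe u

local notation "D" => Spor.squareDodecad

theorem four_trans : MulAction.IsMultiplyPretransitive Spor.M12 Pts 4 := by
  have h5 : MulAction.IsMultiplyPretransitive Spor.M12 Pts 5 := by
    constructor
    intro x y
    let x' : Fin 5 ↪ GolayPt := x.trans (Function.Embedding.subtype _)
    let y' : Fin 5 ↪ GolayPt := y.trans (Function.Embedding.subtype _)
    obtain ⟨g, hg, -⟩ := Cfsg.Agent.S0384.result D Cfsg.Agent.Schreier.MEleven.squareDodecad_mem x' y'
      (fun i => (x i).2) (fun i => (y i).2)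
    refine ⟨⟨g.1.1, g.1.2, g.2⟩, ?_⟩
    apply DFunLike.ext
    intro i
    exact Subtype.ext (hg i)
  refine MulAction.isMultiplyPretransitive_of_le (n := 5) (by norm_num) ?_
  rw [Nat.card_eq_fintype_card]
  decide +kernel

theorem card_pts : Nat.card Pts = 12 := by
  rw [Nat.card_eq_fintype_card]
  decide +kernel

theorem card : Nat.card Spor.M12 = 95040 := Cfsg.Agent.MTwelveType.SylowModel.card_M12

/-- the character of degree `11` -/
noncomputable def c11 (g : Spor.M12) : ℂ := (H621.AltChar.nf Pts g : ℂ) - 1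

/-- the character of degree `55` -/
noncomputable def c55 (g : Spor.M12) : ℂ :=
  ((H621.AltChar.nf Pts g : ℂ) ^ 2 - 3 * H621.AltChar.nf Pts g + 2 - H621.AltChar.nu Pts g) / 2

variable [Finite Spor.M12]

theorem irr11 : IsIrrCharacter Spor.M12 c11 := by
  have := Fintype.ofFinite Spor.M12
  exact H621.AltChar.irr_one (G := Spor.M12) (Ω := Pts) (by rw [card_pts]; norm_num) four_trans

theorem irr55 : IsIrrCharacter Spor.M12 c55 := by
  have := Fintype.ofFinite Spor.M12
  exact H621.AltChar.irr_b (G := Spor.M12) (Ω := Pts) (by rw [card_pts]; norm_num) four_trans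

theorem irr11' : IsIrrCharacter Spor.M12 (fun g => c11 (bt g)) :=
  Cfsg.Agent.Characters.Core.isIrr_comp bt.toMonoidHom bt.surjective irr11

theorem c11_one : c11 1 = (11 : ℕ) := by
  unfold c11
  rw [H621.AltChar.nf_one, card_pts]
  norm_num

theorem c55_one : c55 1 = (55 : ℕ) := by
  unfold c55
  rw [H621.AltChar.nf_one, H621.AltChar.nu_one, card_pts]
  norm_num

theorem rat11 (g : Spor.M12) : ∃ q : ℚ, c11 g = q :=
  ⟨(H621.AltChar.nf Pts g : ℚ) - 1, by unfold c11; push_cast; rfl⟩

theorem rat55 (g : Spor.M12) : ∃ q : ℚ, c55 g = q :=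
  ⟨((H621.AltChar.nf Pts g : ℚ) ^ 2 - 3 * H621.AltChar.nf Pts g + 2 - H621.AltChar.nu Pts g) / 2, by
    unfold c55; push_cast; rfl⟩

theorem ne_bt : c11 x6 ≠ c11 (bt x6) ∨ c11 x8 ≠ c11 (bt x8) := by
  right
  intro h
  have h1 : (H621.AltChar.nf Pts x8 : ℂ) = (H621.AltChar.nf Pts (bt x8) : ℂ) := by
    unfold c11 at h
    linear_combination h
  have h2 : H621.AltChar.nf Pts x8 = H621.AltChar.nf Pts (bt x8) := by exact_mod_cast h1
  have h3 : fx x8 = fx (bt x8) := by
    rw [← card_fixed, ← card_fixed]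
    exact h2
  revert h3
  decide +kernel

/-- **`M12`** -/
theorem good5_model : H601.K4.Good5 Spor.M12 := by
  have hp : Nat.Prime 11 := by norm_num
  have hn : 11 ^ 1 ∣ Nat.card Spor.M12 := by rw [card]; norm_num
  have hn' : ¬ 11 ^ (1 + 1) ∣ Nat.card Spor.M12 := by rw [card]; norm_num
  have : Fact (Nat.Prime 11) := ⟨hp⟩
  obtain ⟨x, hx⟩ := exists_prime_orderOf_dvd_card' (G := Spor.M12) 11 ((dvd_pow_self 11 one_ne_zero).trans hn)
  have hb1 : c11 (bt 1) = (11 : ℕ) := by rw [map_one]; exact c11_one
  refine good5_of_four (by rw [card]; exact ⟨47520, rfl⟩)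
    (χ := ![fun _ => 1, c11, fun g => c11 (bt g), c55]) (t := x) (z := ![1, 0, 0, 0]) ?_ ?_ ?_ ?_ ?_
  · have h01 : (fun _ : Spor.M12 => (1 : ℂ)) ≠ c11 := fun h => by
      have := congrFun h 1
      rw [c11_one] at this
      norm_num at this
    have h02 : (fun _ : Spor.M12 => (1 : ℂ)) ≠ fun g => c11 (bt g) := fun h => by
      have : (1 : ℂ) = c11 (bt 1) := congrFun h 1
      rw [hb1] at this
      norm_num at this
    have h03 : (fun _ : Spor.M12 => (1 : ℂ)) ≠ c55 := fun h => by
      have := congrFun h 1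
      rw [c55_one] at this
      norm_num at this
    have h12 : c11 ≠ fun g => c11 (bt g) := fun h => by
      rcases ne_bt with h1 | h1
      · exact h1 (congrFun h x6)
      · exact h1 (congrFun h x8)
    have h13 : c11 ≠ c55 := fun h => by
      have := congrFun h 1
      rw [c55_one, c11_one] at this
      norm_num at this
    have h23 : (fun g => c11 (bt g)) ≠ c55 := fun h => by
      have : c11 (bt 1) = c55 1 := congrFun h 1
      rw [c55_one, hb1] at this
      norm_num at this
    intro i j hij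
    fin_cases i <;> fin_cases j <;>
      first | rfl | exact absurd hij h01 | exact absurd hij.symm h01 | exact absurd hij h02 |
        exact absurd hij.symm h02 | exact absurd hij h03 | exact absurd hij.symm h03 |
        exact absurd hij h12 | exact absurd hij.symm h12 | exact absurd hij h13 |
        exact absurd hij.symm h13 | exact absurd hij h23 | exact absurd hij.symm h23
  · intro i
    fin_cases i
    · exact good_one'
    · have h : H601.K4.Good c11 := good_of_rat irr11 rat11 (by
        rw [Cfsg.Agent.Blocks.Basic.charDegree_of_eq c11_one]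
        exact ⟨5, rfl⟩)
      exact h
    · have h : H601.K4.Good (fun g => c11 (bt g)) := good_of_rat irr11' (fun g => rat11 (bt g)) (by
        rw [Cfsg.Agent.Blocks.Basic.charDegree_of_eq hb1]
        exact ⟨5, rfl⟩)
      exact h
    · have h : H601.K4.Good c55 := good_of_rat irr55 rat55 (by
        rw [Cfsg.Agent.Blocks.Basic.charDegree_of_eq c55_one]
        exact ⟨27, rfl⟩)
      exact h
  · rw [hx]
    exact ⟨5, rfl⟩
  · intro i
    fin_cases i
    · simp
    · show c11 x = ((0 : ℤ) : ℂ)
      rw [Int.cast_zero]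
      exact zero_of_dvd hp hn hn' irr11 c11_one (by norm_num) (by rw [hx])
    · show c11 (bt x) = ((0 : ℤ) : ℂ)
      rw [Int.cast_zero]
      exact zero_of_dvd hp hn hn' irr11' hb1 (by norm_num) (by rw [hx])
    · show c55 x = ((0 : ℤ) : ℂ)
      rw [Int.cast_zero]
      exact zero_of_dvd hp hn hn' irr55 c55_one (by norm_num) (by rw [hx])
  · simp [Fin.sum_univ_succ]

omit [Finite Spor.M12]

/-- **`M12`, row (A) of S4547** -/
theorem good5 {S : Type u} [Group S] (h : Spor.IsoM12 S) : H601.K4.Good5 S := by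
  have : Finite Spor.M12 := Nat.finite_of_card_ne_zero (by rw [card]; norm_num)
  obtain ⟨e⟩ := h
  have : Finite S := Finite.of_equiv _ e.symm.toEquiv
  exact good5_of_equiv e good5_model

theorem odd5 {S : Type u} [Group S] (h : Spor.IsoM12 S) : H601.K4.Odd5 S := (good5 h).odd5

theorem five_le {S : Type u} [Group S] (h : Spor.IsoM12 S) : 5 ≤ H714.K4.k0 S := by
  have : Finite Spor.M12 := Nat.finite_of_card_ne_zero (by rw [card]; norm_num)
  obtain ⟨χ, hinj, hχ⟩ := odd5 h
  obtain ⟨e⟩ := h
  have : Finite S := Finite.of_equiv _ e.symm.toEquiv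
  classical
  have hs : 5 ≤ (Finset.univ.image χ).card := by
    rw [Finset.card_image_of_injective _ hinj, Finset.card_univ, Fintype.card_fin]
  rw [H714.K4.k0_eq]
  refine hs.trans ?_
  rw [← Set.ncard_coe_finset]
  refine Set.ncard_le_ncard (fun ψ hψ => ?_) (H714.K4.odd_finite S)
  rw [Finset.mem_coe, Finset.mem_image] at hψ
  obtain ⟨i, -, rfl⟩ := hψ
  exact hχ i

/-- **`M12`, row (A) of S4947 (team FOUR)** -/
theorem row5 {S : Type u} [Group S] (h : Spor.IsoM12 S) : H307.FourOdd.Row5 S := five_le h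

/-- **`M12`, row (A) of S4947** -/
theorem rowA {S : Type u} [Group S] (h : Spor.IsoM12 S) : H714.K4.RowA S := Or.inr (five_le h)

end Cfsg.Agent.H395.K4.M12
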